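import Cfsg.Agent.H995.IMB
import Cfsg.Agent.BM.KHAll
import Cfsg.Agent.FastGrp
import Cfsg.Agent.Prune
set_option linter.all false
prune_inst 0x7f00000000000000000000000000000000000000000000000000000000000000000000000000000000000000000000000000000000000000000000000000000000000000000000000000000000000000003fffffffffffffffffffffffffffbeffbdffffffff
open scoped Cfsg.Agent.FastGrp

/-!
# S3010, the row of the Baby Monster: the centralizer of two transpositions (helper877)

`not_dvd` : if `t`, `s` are transpositions which do not commute and 13 divides `|C(t) ∩ C(s)|`, then `2 ^ 19` does not divide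
`|C(t) ∩ C(s)|` (from the valencies `1, 3968055, 23113728, 2370830336, 11174042880` of the association scheme).
-/

set_option autoImplicit false
set_option linter.constructorNameAsVariable false
set_option maxRecDepth 100000

open Subgroup

namespace Cfsg.Agent.H877.SK.B.Sch

open Cfsg Cfsg.Agent.BabyM.Inst Cfsg.Agent.H995.BSch Cfsg.Agent.H995.BSchVal Cfsg.Agent.H995.IMB Cfsg.Agent.H816.IMEig
  Cfsg.Agent.BabyM

/-- the valencies -/
def vv : Fin 5 → ℕ := ![1, 3968055, 23113728, 2370830336, 11174042880]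

theorem vv_eq : ∀ u : Fin 5, ∑ w, t u w = vv u := by decide +kernel

/-- the base transposition -/
noncomputable def T : M.G := ⟨M.t₀, Instance.all.C_le_G Instance.all.t₀_C⟩

theorem HH_eq' : HH M = centralizer ({T} : Set M.G) := HH_eq Instance.all Instance.tr

theorem mem_HH' {g : M.G} : g ∈ HH M ↔ g * T = T * g := by
  rw [HH_eq', mem_centralizer_singleton_iff]

theorem col' : Col M.G (H995.BSch.X M) (Fin 5) (cX M) 0 := sch.isCol Instance.all Instance.tr

theorem card_fib {Y : Type} [Finite Y] (P : Y → Prop) (f : Y → Fin 5) :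
    Nat.card {y // P y} = ∑ w, Nat.card {y // P y ∧ f y = w} := by
  classical
  have := Fintype.ofFinite Y
  rw [← Nat.card_sigma]
  refine Nat.card_congr ⟨fun y => ⟨f y.1, y.1, y.2, rfl⟩, fun y => ⟨y.2.1, y.2.2.1⟩, fun _ => rfl, ?_⟩
  rintro ⟨w, y, hy, rfl⟩
  rfl

instance finXM : Finite (H995.BSch.X M) := Quotient.finite _

theorem card_col (u : Fin 5) : Nat.card {y : H995.BSch.X M // cX M (QuotientGroup.mk 1) y = u} = vv u := by
  obtain ⟨z₀, -, h2⟩ := exists_z
  rw [card_fib _ (fun y => cX M z₀ y), ← vv_eq]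
  exact Finset.sum_congr rfl fun w _ => h2 u w

/-- **Orbits and stabilisers.** -/
theorem card_mul (g : M.G) :
    Nat.card ↥(centralizer ({T} : Set M.G) ⊓ centralizer ({g * T * g⁻¹} : Set M.G) : Subgroup M.G) *
      vv (cX M (QuotientGroup.mk 1) (QuotientGroup.mk g)) = Nat.card (centralizer ({T} : Set M.G)) := by
  rw [← card_col, ← HH_eq', mul_comm]
  have e1 : Nat.card ↥(MulAction.orbit ↥(HH M) (QuotientGroup.mk g : H995.BSch.X M)) =
      Nat.card {y : H995.BSch.X M // cX M (QuotientGroup.mk 1) y = cX M (QuotientGroup.mk 1) (QuotientGroup.mk g)} := by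
    refine Nat.card_congr (Equiv.subtypeEquivRight fun y => ?_)
    rw [MulAction.mem_orbit_iff]
    constructor
    · rintro ⟨h, rfl⟩
      have h1 : (h : M.G) • (QuotientGroup.mk 1 : H995.BSch.X M) = QuotientGroup.mk 1 := by
        show (QuotientGroup.mk ((h : M.G) * 1) : H995.BSch.X M) = QuotientGroup.mk 1
        rw [QuotientGroup.eq, mul_one, mul_one]
        exact inv_mem h.2
      have h2 := col'.inv (h : M.G) (QuotientGroup.mk 1) (QuotientGroup.mk g)
      rw [h1] at h2
      exact h2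
    · intro h
      obtain ⟨k, hk1, hk2⟩ := col'.tr (QuotientGroup.mk 1) (QuotientGroup.mk g) (QuotientGroup.mk 1) y h.symm
      have h1 : (QuotientGroup.mk (k * 1) : H995.BSch.X M) = QuotientGroup.mk 1 := hk1
      rw [QuotientGroup.eq, mul_one, mul_one] at h1
      exact ⟨⟨k, by simpa using inv_mem h1⟩, hk2⟩
  have e2 : Nat.card ↥(MulAction.stabilizer ↥(HH M) (QuotientGroup.mk g : H995.BSch.X M)) =
      Nat.card ↥(HH M ⊓ centralizer ({g * T * g⁻¹} : Set M.G) : Subgroup M.G) := by
    refine Nat.card_congr ⟨fun h => ⟨(h : ↥(HH M)), ?_⟩, fun h => ⟨⟨h, (mem_inf.1 h.2).1⟩, ?_⟩, fun _ => rfl,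
      fun _ => rfl⟩
    · refine mem_inf.2 ⟨(h : ↥(HH M)).2, ?_⟩
      have h1 : (QuotientGroup.mk (((h : ↥(HH M)) : M.G) * g) : H995.BSch.X M) = QuotientGroup.mk g := h.2
      have h2 : g⁻¹ * ((h : ↥(HH M)) : M.G) * g ∈ HH M := by
        have h3 := QuotientGroup.eq.1 h1.symm
        rwa [← mul_assoc] at h3
      replace h2 := mem_HH'.1 h2
      rw [mem_centralizer_singleton_iff]
      calc ((h : ↥(HH M)) : M.G) * (g * T * g⁻¹) = g * (g⁻¹ * ((h : ↥(HH M)) : M.G) * g * T) * g⁻¹ := by group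
        _ = g * (T * (g⁻¹ * ((h : ↥(HH M)) : M.G) * g)) * g⁻¹ := by rw [h2]
        _ = _ := by group
    · show (QuotientGroup.mk ((h : M.G) * g) : H995.BSch.X M) = QuotientGroup.mk g
      symm
      rw [QuotientGroup.eq, ← mul_assoc]
      refine mem_HH'.2 ?_
      have h1 := mem_centralizer_singleton_iff.1 (mem_inf.1 h.2).2
      calc g⁻¹ * (h : M.G) * g * T = g⁻¹ * ((h : M.G) * (g * T * g⁻¹)) * g := by group
        _ = g⁻¹ * ((g * T * g⁻¹) * (h : M.G)) * g := by rw [h1]
        _ = _ := by group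
  rw [← e1, ← e2, ← Nat.card_prod]
  exact Nat.card_congr (MulAction.orbitProdStabilizerEquivGroup ↥(HH M) (QuotientGroup.mk g : H995.BSch.X M))

/-- a transposition of colour 2 commutes with the base transposition -/
theorem comm_of_two {g : M.G} (h : cX M (QuotientGroup.mk 1) (QuotientGroup.mk g) = 2) :
    T * (g * T * g⁻¹) = g * T * g⁻¹ * T := by
  rw [cX_mk Instance.all] at h
  have hC : Comm M M.d₀ ((g : M.G).1 M.d₀) := by
    change col M M.d₀ ((g : M.G).1 M.d₀) = 2 at h
    unfold col at h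
    split_ifs at h with h1 h2 h3 h4 <;> first | exact absurd h (by decide) | assumption
  obtain ⟨k, hk, hk1, hk2⟩ := hC
  have h1 : (⟨k, hk⟩ : M.G) * T = T * ⟨k, hk⟩ := mem_HH'.1 (mem_HH.2 (Or.inl hk1))
  have h2 : k * M.t₀ * k⁻¹ = M.t₀ := by
    rw [mul_inv_eq_iff_eq_mul]
    exact congrArg Subtype.val h1
  rw [h2] at hk2
  have h3 : g⁻¹ * T * g ∈ HH M := by
    rw [mem_HH]
    have h4 := hk2.map (g : M.G).1⁻¹
    have e : (g : M.G).1⁻¹ ((g : M.G).1 M.d₀) = M.d₀ := (g : M.G).1.symm_apply_apply _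
    rw [e] at h4
    exact h4
  have h4 := mem_HH'.1 h3
  calc T * (g * T * g⁻¹) = g * (g⁻¹ * T * g * T) * g⁻¹ := by group
    _ = g * (T * (g⁻¹ * T * g)) * g⁻¹ := by rw [h4]
    _ = g * T * g⁻¹ * T := by group

theorem not_dvd_M {g : M.G} (hne : T * (g * T * g⁻¹) ≠ g * T * g⁻¹ * T)
    (h13 : 13 ∣ Nat.card ↥(centralizer ({T} : Set M.G) ⊓ centralizer ({g * T * g⁻¹} : Set M.G) : Subgroup M.G)) :
    ¬ 2 ^ 19 ∣ Nat.card ↥(centralizer ({T} : Set M.G) ⊓ centralizer ({g * T * g⁻¹} : Set M.G) : Subgroup M.G) := by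
  have h1 := card_mul g
  have h2 : Nat.card (centralizer ({T} : Set M.G)) = 306129918735099415756800 := Instance.all.card_cent Instance.tr
  rw [h2] at h1
  set N := Nat.card ↥(centralizer ({T} : Set M.G) ⊓ centralizer ({g * T * g⁻¹} : Set M.G) : Subgroup M.G) with hN
  obtain ⟨k, hk⟩ := h13
  have h3 : ∀ u : Fin 5, cX M (QuotientGroup.mk 1) (QuotientGroup.mk g) = u → ¬ 2 ^ 19 ∣ N := by
    intro u hu
    rw [hu] at h1
    fin_cases u
    · exfalso
      have h4 : (QuotientGroup.mk 1 : H995.BSch.X M) = QuotientGroup.mk g := (col'.diag _ _).1 hu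
      rw [QuotientGroup.eq, inv_one, one_mul] at h4
      have h5 := mem_HH'.1 h4
      apply hne
      rw [h5, mul_assoc T g g⁻¹, mul_inv_cancel, mul_one]
    · exfalso
      have h4 : N * 3968055 = 306129918735099415756800 := h1
      rw [hk] at h4
      omega
    · exact absurd (comm_of_two hu) hne
    · have h4 : N * 2370830336 = 306129918735099415756800 := h1
      rintro ⟨l, hl⟩
      rw [hl] at h4
      omega
    · exfalso
      have h4 : N * 11174042880 = 306129918735099415756800 := h1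
      rw [hk] at h4
      omega
  exact h3 _ rfl

theorem conj_cent {G H : Type*} [Group G] [Group H] (e : G ≃* H) (t s : G) :
    Nat.card ↥(centralizer ({t} : Set G) ⊓ centralizer ({s} : Set G) : Subgroup G) =
      Nat.card ↥(centralizer ({e t} : Set H) ⊓ centralizer ({e s} : Set H) : Subgroup H) := by
  have key : ∀ a b : G, a * b = b * a ↔ e a * e b = e b * e a := by
    intro a b
    rw [← map_mul, ← map_mul, e.injective.eq_iff]
  refine Nat.card_congr (e.toEquiv.subtypeEquiv fun g => ?_)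
  simp only [mem_inf, mem_centralizer_singleton_iff]
  rw [key, key]
  rfl

/-- **The centralizer of two transpositions.** -/
theorem not_dvd {t s : Spor.BabyMonster}
    (ht : IsConj (PresentedGroup.of Spor.BabyMonster.Gen.t1 : Spor.BabyMonster) t)
    (hs : IsConj (PresentedGroup.of Spor.BabyMonster.Gen.t1 : Spor.BabyMonster) s) (hne : t * s ≠ s * t)
    (h13 : 13 ∣ Nat.card ↥(centralizer ({t} : Set Spor.BabyMonster) ⊓ centralizer ({s} : Set Spor.BabyMonster) :
      Subgroup Spor.BabyMonster)) :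
    ¬ 2 ^ 19 ∣ Nat.card ↥(centralizer ({t} : Set Spor.BabyMonster) ⊓ centralizer ({s} : Set Spor.BabyMonster) :
      Subgroup Spor.BabyMonster) := by
  have h0 : IsConj T (BM.KHAll.iso (PresentedGroup.of Spor.BabyMonster.Gen.t1 : Spor.BabyMonster)) := by
    have h1 := BM.KH.conj_x Spor.BabyMonster.Gen.t1
    rw [← BM.KHAll.iso_gB] at h1
    exact h1
  obtain ⟨a, ha⟩ := isConj_iff.1 (h0.trans (BM.KHAll.iso.toMonoidHom.map_isConj ht))
  obtain ⟨b, hb⟩ := isConj_iff.1 (h0.trans (BM.KHAll.iso.toMonoidHom.map_isConj hs))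
  let e := BM.KHAll.iso.trans (MulAut.conj a⁻¹)
  have he1 : e t = T := by
    show a⁻¹ * BM.KHAll.iso t * a⁻¹⁻¹ = T
    have : BM.KHAll.iso t = a * T * a⁻¹ := ha.symm
    rw [this]; group
  have he2 : e s = (a⁻¹ * b) * T * (a⁻¹ * b)⁻¹ := by
    show a⁻¹ * BM.KHAll.iso s * a⁻¹⁻¹ = _
    have : BM.KHAll.iso s = b * T * b⁻¹ := hb.symm
    rw [this]; group
  rw [conj_cent e t s, he1, he2] at h13 ⊢
  refine not_dvd_M ?_ h13
  intro h
  apply hne
  apply e.injective
  rw [map_mul, map_mul, he1, he2]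
  exact h

end Cfsg.Agent.H877.SK.B.Sch
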