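import Cfsg.Agent.H282.SK.Tools
import Cfsg.Agent.H547.PP.FarBaby
import Cfsg.Agent.BabyComp.BaseTwo
import Cfsg.Agent.H935.RuM.Mon
import Cfsg.Agent.FastGrp
import Cfsg.Agent.Prune
set_option linter.all false

section
prune_inst 0x7f00000000000000000000000000000000000000000000000000000000000000000000000000000000000000000000000000000000000000000000000000000000000000000000000000000000000000003fffffffffffffffffffffffffffbeffbdffffffff

-- part: H738/SK/Transport
section
set_option linter.all false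
open scoped Cfsg.Agent.FastGrp

/-!
# S3010 (Sidki pairs): transport to a concrete group, dead classes (helper738)

* `equiv`: transport of `Cx V K` along `G ≃* G'` in another universe.
* `exists_of_inner`: `K ≃* X`, all automorphisms of `X` inner: `∃ V' : Subgroup X, Cx V' ⊤`.
* `exists_of_out2`: `K ≃* X`, `[Aut X : Inn X] ≤ 2`: `∃ V' : Subgroup X, Cx V' ⊤`, or `∃ V' : Subgroup (MulAut X),
  Cx V' Inn(X)`.
* `exists_of_ext2`: the same with `Aut X` replaced by any group `A` having `X` as a subgroup of index 2 with trivial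
  centralizer.
* `Dead K t`: no counterexample `V` contains `t`; conjugation invariant.
-/

set_option autoImplicit false
set_option linter.unusedVariables false
set_option linter.style.haveILetI false

universe u v w

open Subgroup Cfsg Cfsg.Agent.H282.SK

namespace Cfsg.Agent.H738.SK

/-! ### Change of universe -/

section gen
variable {A : Type u} {B : Type v} [Group A] [Group B]

theorem sidki_map {W : Subgroup A} (f : A ≃* B) (h : IsSidkiPair W) : IsSidkiPair (W.map f.toMonoidHom) := by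
  rintro x _ ⟨v, hv, rfl⟩ hx hi
  have hx' : Odd (orderOf (f.symm x)) := by rwa [MulEquiv.orderOf_eq]
  have hi' : v * f.symm x * v⁻¹ = (f.symm x)⁻¹ := by
    apply f.injective
    simpa only [_root_.map_mul, _root_.MulEquiv.apply_symm_apply, _root_.map_inv, _root_.MulEquiv.toMonoidHom_eq_coe, _root_.MonoidHom.coe_coe] using hi
  obtain ⟨w, hw, hw1, hc⟩ := h _ v hv hx' hi'
  refine ⟨f w, ⟨w, hw, rfl⟩, fun h1 => hw1 (f.injective (by simpa using h1)), ?_⟩
  have := congrArg f hc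
  simpa only [_root_.map_mul, _root_.MulEquiv.apply_symm_apply] using this

theorem pCore_le_map [Finite A] [Finite B] (f : A ≃* B) : pCore 2 B ≤ (pCore 2 A).map f.toMonoidHom := by
  intro x hx
  refine ⟨f.symm x, ?_, by simp⟩
  have h1 : (pCore 2 B).comap f.toMonoidHom ≤ pCore 2 A := by
    refine le_sSup ⟨(Lib.Cores.pCore_normal 2).comap _, ?_⟩
    exact (Lib.Cores.pCore_isPGroup 2).comap_of_injective _ f.injective
  exact h1 (by simpa using hx)

theorem inf_pCore_map [Finite A] [Finite B] {W : Subgroup A} (f : A ≃* B) (h : W ⊓ pCore 2 A = ⊥) :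
    W.map f.toMonoidHom ⊓ pCore 2 B = ⊥ := by
  rw [eq_bot_iff]
  rintro _ ⟨⟨w, hw, rfl⟩, h2⟩
  obtain ⟨w', hw', he⟩ := pCore_le_map f h2
  have h3 : w' = w := f.injective he
  subst h3
  have h4 : w' ∈ W ⊓ pCore 2 A := ⟨hw, hw'⟩
  rw [h, mem_bot] at h4
  rw [h4, map_one]
  exact one_mem _

theorem natCard_map (f : A ≃* B) (W : Subgroup A) : Nat.card (W.map f.toMonoidHom) = Nat.card W :=
  Nat.card_congr (W.equivMapOfInjective _ f.injective).toEquiv.symm

end gen

theorem exists_group {F : Type u} {H : Type v} [Group H] (e0 : F ≃ H) :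
    ∃ (_ : Group F), Nonempty (F ≃* H) := by
  letI : Group F := e0.group
  exact ⟨inferInstance, ⟨{ toEquiv := e0, map_mul' := fun a b => e0.apply_symm_apply _ }⟩⟩

theorem exists_copy (H : Type v) [Group H] [Finite H] :
    ∃ (F : Type u) (_ : Group F) (_ : Finite F), Nonempty (F ≃* H) := by
  obtain ⟨g, e⟩ := exists_group (Equiv.ulift.{u}.trans (Finite.equivFin H).symm)
  exact ⟨ULift.{u} (Fin (Nat.card H)), g, inferInstance, e⟩

/-- The statement for small groups does not depend on the universe. -/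
theorem min_univ {n : ℕ} (h : H273.Sidki.Min.{u} n) : H273.Sidki.Min.{v} n := by
  intro H _ _ W hc hW hW1 hS hbot
  obtain ⟨F, _, _, ⟨e⟩⟩ := exists_copy.{u} H
  refine h F (W.map e.symm.toMonoidHom) ?_ (H273.Sidki.elemAb_map hW _) ?_ (sidki_map e.symm hS)
    (inf_pCore_map e.symm hbot)
  · rwa [Nat.card_congr e.toEquiv]
  · rwa [Ne, Subgroup.map_eq_bot_iff_of_injective _ e.symm.injective]

section
variable {G : Type u} [Group G] [Finite G] {V K : Subgroup G}

/-- Transport along an isomorphism, in any universe. -/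
theorem equiv (h : Cx V K) {G' : Type v} [Group G'] [Finite G'] (f : G ≃* G') :
    Cx (V.map f.toMonoidHom) (K.map f.toMonoidHom) := by
  have hinj : Function.Injective f.toMonoidHom := f.injective
  have hsurj : Function.Surjective f.toMonoidHom := f.surjective
  refine ⟨H273.Sidki.elemAb_map h.elem _, sidki_map f h.sidki, by rw [natCard_map]; exact h.card,
    h.norm.map _ hsurj, ?_, ?_, ?_, ?_, inf_pCore_map f h.bot, ?_, ?_⟩
  · haveI := h.simple
    exact (K.equivMapOfInjective _ hinj).symm.isSimpleGroup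
  · rintro ⟨⟨hc⟩⟩
    apply h.nonab
    refine ⟨⟨fun a b => ?_⟩⟩
    apply (K.equivMapOfInjective _ hinj).injective
    rw [map_mul, map_mul]
    exact hc _ _
  · rw [eq_bot_iff]
    intro z hz
    have h1 : f.symm z = 1 := by
      apply h.eq_one_of_comm
      intro k hk
      apply f.injective
      have := mem_centralizer_iff.1 hz (f k) ⟨k, hk, rfl⟩
      simpa only [_root_.map_mul, _root_.MulEquiv.apply_symm_apply] using this.symm
    rw [mem_bot]
    simpa only [_root_.MulEquiv.apply_symm_apply, _root_.map_one] using congrArg f h1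
  · rw [← Subgroup.map_sup, h.sup, Subgroup.map_top_of_surjective _ hsurj]
  · have : Nat.card G' = Nat.card G := Nat.card_congr f.symm.toEquiv
    rw [this]
    exact min_univ h.min
  · intro W hW hWe hW1 hWS
    refine h.minV (W.map f.symm.toMonoidHom) (by rw [natCard_map, ← natCard_map f V]; exact hW)
      (H273.Sidki.elemAb_map hWe _) ?_ (sidki_map f.symm hWS)
    rwa [Ne, Subgroup.map_eq_bot_iff_of_injective _ f.symm.injective]

/-- The conjugates of `V` are counterexamples too. -/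
theorem conj (h : Cx V K) (g : G) : Cx (V.map (MulAut.conj g).toMonoidHom) K := by
  have h1 := equiv h (MulAut.conj g)
  haveI := h.norm
  have h2 : K.map (MulAut.conj g).toMonoidHom = K := by
    ext y
    constructor
    · rintro ⟨k, hk, rfl⟩
      exact h.norm.conj_mem k hk g
    · intro hy
      refine ⟨g⁻¹ * y * g, by simpa using h.norm.conj_mem y hy g⁻¹, ?_⟩
      show g * (g⁻¹ * y * g) * g⁻¹ = y
      group
  rwa [h2] at h1

theorem index_K (h : Cx V K) : Nat.card V = Nat.card (V ⊓ K : Subgroup G) * K.index := by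
  haveI := h.norm
  have h1 : (K.relIndex V) = K.index := by
    have h2 : K.relIndex (K ⊔ V) = K.relIndex V := Subgroup.relIndex_sup_left V K
    rw [← h2, h.sup, Subgroup.relIndex_top_right]
  have h3 : (V ⊓ K : Subgroup G).relIndex V = K.relIndex V := by
    rw [inf_comm, Subgroup.inf_relIndex_right]
  have h4 := Subgroup.relIndex_mul_relIndex (⊥ : Subgroup G) (V ⊓ K) V bot_le inf_le_left
  rw [Subgroup.relIndex_bot_left, Subgroup.relIndex_bot_left, h3, h1] at h4
  exact h4.symm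

theorem four_le (h : Cx V K) (hi : K.index ≤ 2) : 4 ≤ Nat.card (V ⊓ K : Subgroup G) := by
  have h1 := index_K h
  have h2 := h.card
  by_contra hc
  push Not at hc
  have : Nat.card (V ⊓ K : Subgroup G) * K.index ≤ 3 * 2 := Nat.mul_le_mul (by omega) hi
  omega

/-- if `[G : K] ≤ 2`, some involution of `V` lies in `K` -/
theorem exists_mem_K (h : Cx V K) (hi : K.index ≤ 2) : ∃ v ∈ V, v ∈ K ∧ v ≠ 1 := by
  by_contra hc
  push Not at hc
  have h1 : (V ⊓ K : Subgroup G) = ⊥ := by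
    rw [Subgroup.eq_bot_iff_forall]
    intro x hx
    exact hc x (mem_inf.1 hx).1 (mem_inf.1 hx).2
  have h2 := four_le h hi
  rw [h1, Subgroup.card_bot] at h2
  omega

/-! ### `K = G` -/

/-- If all automorphisms of `K` are inner then `G = K`. -/
theorem top_of_inner (h : Cx V K) {X : Type v} [Group X] (e : K ≃* X)
    (hin : ∀ α : MulAut X, ∃ x : X, α = MulAut.conj x) : K = ⊤ := by
  obtain ⟨φ, hφ, hφK, -⟩ := h.exists_toAut e
  rw [eq_top_iff]
  intro g _
  obtain ⟨x, hx⟩ := hin (φ g)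
  have h1 : φ g = φ (e.symm x : K) := by
    rw [hφK, hx, MulEquiv.apply_symm_apply]
  rw [hφ h1]
  exact (e.symm x).2

theorem exists_of_top (h : Cx V K) (hK : K = ⊤) {X : Type v} [Group X] [Finite X] (e : K ≃* X) :
    ∃ V' : Subgroup X, Cx V' (⊤ : Subgroup X) := by
  subst hK
  have h1 := equiv h ((Subgroup.topEquiv (G := G)).symm.trans e)
  rw [Subgroup.map_top_of_surjective _ ((Subgroup.topEquiv (G := G)).symm.trans e).surjective] at h1
  exact ⟨_, h1⟩

/-- **Out(X) = 1.** -/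
theorem exists_of_inner (h : Cx V K) {X : Type v} [Group X] [Finite X] (e : K ≃* X)
    (hin : ∀ α : MulAut X, ∃ x : X, α = MulAut.conj x) : ∃ V' : Subgroup X, Cx V' (⊤ : Subgroup X) :=
  exists_of_top h (top_of_inner h e hin) e

/-! ### `|Out| = 2` -/

/-- **|Out(X)| ≤ 2**: `V ≤ Aut(X)`. -/
theorem exists_of_out2 (h : Cx V K) {X : Type v} [Group X] [Finite X] (e : K ≃* X)
    (hout : (MulAut.conj (G := X)).range.index ≤ 2) :
    (K = ⊤ ∧ ∃ V' : Subgroup X, Cx V' (⊤ : Subgroup X)) ∨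
      (K.index = 2 ∧ ∃ V' : Subgroup (MulAut X), Cx V' (MulAut.conj (G := X)).range) := by
  classical
  by_cases hK : K = ⊤
  · exact Or.inl ⟨hK, exists_of_top h hK e⟩
  right
  obtain ⟨φ, hφ, hφK, -⟩ := h.exists_toAut e
  set I : Subgroup (MulAut X) := (MulAut.conj (G := X)).range with hI
  have hKI : K.map φ = I := by
    apply le_antisymm
    · rintro _ ⟨x, hx, rfl⟩
      exact ⟨e ⟨x, hx⟩, (hφK ⟨x, hx⟩).symm⟩
    · rintro _ ⟨x, rfl⟩
      refine ⟨(e.symm x : K), (e.symm x).2, ?_⟩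
      rw [hφK, MulEquiv.apply_symm_apply]
  have hcardI : Nat.card I = Nat.card K := by
    rw [← hKI]
    exact Nat.card_congr (K.equivMapOfInjective _ hφ).toEquiv.symm
  have hi2 : 2 ≤ K.index := by
    have h1 : K.index ≠ 1 := fun h1 => hK (Subgroup.index_eq_one.1 h1)
    have h2 : K.index ≠ 0 := Subgroup.index_ne_zero_of_finite
    omega
  have hG : Nat.card G = Nat.card K * K.index := (Subgroup.card_mul_index K).symm
  have hA : Nat.card (MulAut X) = Nat.card I * I.index := (Subgroup.card_mul_index I).symm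
  have hle : Nat.card G ≤ Nat.card (MulAut X) := Nat.card_le_card_of_injective _ hφ
  have hpos : 0 < Nat.card K := Nat.card_pos
  have h3 : K.index ≤ I.index := by
    rw [hG, hA, hcardI] at hle
    exact Nat.le_of_mul_le_mul_left hle hpos
  have hi2' : K.index = 2 := by omega
  have hcard : Nat.card G = Nat.card (MulAut X) := by
    rw [hG, hA, hcardI]
    congr 1
    omega
  let Θ : G ≃* MulAut X := MulEquiv.ofBijective φ ((Nat.bijective_iff_injective_and_card φ).2 ⟨hφ, hcard⟩)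
  have h1 := equiv h Θ
  have h2 : K.map Θ.toMonoidHom = I := hKI
  rw [h2] at h1
  exact ⟨hi2', _, h1⟩

/-! ### Direct kills -/

/-- `C_G(x)` of odd order -/
theorem false_of_odd (h : Cx V K) {v x : G} (hv : v ∈ V) (hx : Odd (orderOf x))
    (hinv : v * x * v⁻¹ = x⁻¹) (hc : Odd (Nat.card (centralizer ({x} : Set G)))) : False := by
  obtain ⟨w, hw, hw1, hwx⟩ := h.t0 hv hx hinv
  have h1 : orderOf w ∣ Nat.card (centralizer ({x} : Set G)) :=
    Subgroup.orderOf_dvd_natCard _ (mem_centralizer_singleton_iff.2 hwx.eq)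
  have h2 : orderOf w ∣ 2 := orderOf_dvd_of_pow_eq_one (by rw [pow_two]; exact h.sq hw)
  have h3 : orderOf w = 2 := by
    rcases (Nat.dvd_prime Nat.prime_two).1 h2 with h3 | h3
    · exact absurd (orderOf_eq_one_iff.1 h3) hw1
    · exact h3
  rw [h3] at h1
  exact (Nat.not_even_iff_odd.2 hc) (even_iff_two_dvd.2 h1)

/-- `O_2(C_G(⟨v, x⟩)) = 1` -/
theorem false_of_O2 (h : Cx V K) {v x : G} (hv : v ∈ V) (hv1 : v ≠ 1) (hx : Odd (orderOf x))
    (hinv : v * x * v⁻¹ = x⁻¹)
    (hc : O2 (centralizer ({v} : Set G) ⊓ centralizer ({x} : Set G)) = ⊥) : False := by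
  obtain ⟨w, hw, hw1, hwx, hwO⟩ := h.t1 hv hv1 hx hinv
  rw [hc, mem_bot] at hwO
  exact hw1 hwO

/-! ### Dead elements -/

/-- `t` is dead: no counterexample `V` of `G` contains `t`. -/
def Dead (K : Subgroup G) (t : G) : Prop := ∀ V : Subgroup G, Cx V K → t ∉ V

theorem Dead.conj {t : G} (hd : Dead K t) (g : G) : Dead K (g * t * g⁻¹) := by
  intro V h ht
  refine hd _ (SK.conj h g⁻¹) ⟨g * t * g⁻¹, ht, ?_⟩
  show g⁻¹ * (g * t * g⁻¹) * g⁻¹⁻¹ = t
  group

theorem Dead.of_isConj {t t' : G} (hd : Dead K t) (hc : IsConj t t') : Dead K t' := by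
  obtain ⟨g, rfl⟩ := isConj_iff.1 hc
  exact hd.conj g

/-- `v` inverts `x` odd and every involution of `O_2(C_G(⟨v, x⟩))` is dead: `v` is dead. -/
theorem Dead.of {v x : G} (hv1 : v ≠ 1) (hx : Odd (orderOf x)) (hinv : v * x * v⁻¹ = x⁻¹)
    (hall : ∀ w : G, w * w = 1 → w ≠ 1 → Commute w v → Commute w x →
      w ∈ O2 (centralizer ({v} : Set G) ⊓ centralizer ({x} : Set G)) → Dead K w) : Dead K v := by
  intro V h hv
  obtain ⟨w, hw, hw1, hwx, hwO⟩ := h.t1 hv hv1 hx hinv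
  exact hall w (h.sq hw) hw1 (h.comm hw hv) hwx hwO V h hw

theorem Dead.of_odd {v x : G} (hx : Odd (orderOf x)) (hinv : v * x * v⁻¹ = x⁻¹)
    (hc : Odd (Nat.card (centralizer ({x} : Set G)))) : Dead K v :=
  fun V h hv => false_of_odd h hv hx hinv hc

theorem Dead.of_O2 {v x : G} (hv1 : v ≠ 1) (hx : Odd (orderOf x)) (hinv : v * x * v⁻¹ = x⁻¹)
    (hc : O2 (centralizer ({v} : Set G) ⊓ centralizer ({x} : Set G)) = ⊥) : Dead K v :=
  fun V h hv => false_of_O2 h hv hv1 hx hinv hc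

/-- all involutions of `G` are dead -/
theorem false_of_dead (h : Cx V K) (hall : ∀ t : G, t * t = 1 → t ≠ 1 → Dead K t) : False := by
  obtain ⟨a, ha⟩ := Subgroup.ne_bot_iff_exists_ne_one.1 h.V_ne_bot
  exact hall a (h.sq a.2) (fun h1 => ha (Subtype.ext h1)) V h a.2

/-- all involutions of `K` are dead, `[G : K] ≤ 2` -/
theorem false_of_dead_inner (h : Cx V K) (hi : K.index ≤ 2)
    (hall : ∀ t ∈ K, t * t = 1 → t ≠ 1 → Dead K t) : False := by
  obtain ⟨v, hv, hvK, hv1⟩ := exists_mem_K h hi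
  exact hall v hvK (h.sq hv) hv1 V h hv

end

/-! ### Row killers -/

/-- **Row with Out(X) = 1**: it is enough to kill the counterexamples in the concrete group `X`. -/
theorem deadS_of_inner {X : Type v} [Group X] [Finite X] {P : (K : Type u) → [Group K] → Prop}
    (hP : ∀ (K : Type u) [Group K], P K → Nonempty (K ≃* X))
    (hin : ∀ α : MulAut X, ∃ x : X, α = MulAut.conj x)
    (hk : ∀ V : Subgroup X, Cx V (⊤ : Subgroup X) → False) : DeadS.{u} P := by
  intro G _ _ V K h hPK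
  obtain ⟨e⟩ := hP _ hPK
  obtain ⟨V', h'⟩ := exists_of_inner h e hin
  exact hk V' h'

end Cfsg.Agent.H738.SK
end

-- part: H877/SK/B/Ctx
section
set_option linter.all false
open scoped Cfsg.Agent.FastGrp

/-!
# S3010, the row of the Baby Monster: the context (helper877)

`Ctx q t M₁ a b` : `q : 2.B → B`, `t` a transposition of `B`, `M₁ ≤ C(t)` of index 2, `a`, `b` involutions of `2.B` (over the
classes `2B`, `2D`); `exists_ctx`.
-/

set_option autoImplicit false
set_option maxRecDepth 100000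
set_option linter.constructorNameAsVariable false
set_option linter.style.haveILetI false

open Subgroup

namespace Cfsg.Agent.H877.SK.B

open Cfsg Cfsg.Lie Cfsg.Agent.Bimonster Cfsg.Agent.BabyU Cfsg.Agent.TwoESix.Cover
open Cfsg.Agent.MonsterX Cfsg.Agent.MonsterX.KSide Cfsg.Agent.MonsterX.KLift Cfsg.Agent.MonsterX.KModel
open Cfsg.Agent.MonsterX.Model Cfsg.Agent.MonsterX.MainPack Cfsg.Agent.MonsterX.MainSimple
open Cfsg.Agent.MonsterX.MainBasic Cfsg.Agent.MonsterU Cfsg.Agent.MonsterU.Assembly Cfsg.Agent.MonsterN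
open Cfsg.Agent.MonsterN.Lit
open Cfsg.Agent.MonsterN.LitInst Cfsg.Agent.MonsterU.Lam2 Cfsg.Agent.MonsterU.TwoCls
open Cfsg.Agent.BabyComp Cfsg.Agent.BabyComp.Main Cfsg.Agent.BabyComp.BaseTwo Cfsg.Agent.R01.Lifts
open Cfsg.Agent.MonsterP Cfsg.Agent.MonsterP.NodeData Cfsg.Agent.MonsterP.NodesConj Cfsg.Agent.CTwoTab.BInst

/-- the Monster -/
noncomputable abbrev MG : Type := ↥InstData.M.G
/-- the double cover -/
noncomputable abbrev BB' : Subgroup MG := BB KDone.K KLinkInst.x₀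
/-- the central involution -/
noncomputable abbrev τ : ↥BB' := tb KDone.K KLinkInst.x₀
/-- the Baby Monster -/
abbrev X : Type := Spor.BabyMonster
/-- the node `t1` -/
abbrev t1 : X := PresentedGroup.of Spor.BabyMonster.Gen.t1
/-- the involution `z` of the Monster -/
noncomputable abbrev zz : MG := KDone.K.z

/-- the context -/
structure Ctx (q : ↥BB' →* X) (t : X) (M₁ : Subgroup X) (a b : ↥BB') : Prop where
  hq : _root_.Cfsg.Agent.R01.Lifts.Ext q τ
  ht : IsConj t1 t
  sq : t * t = 1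
  ne : t ≠ 1
  base : Base2 t M₁
  mem : t ∈ M₁
  lift : ∀ k : ↥BB', q k ∈ M₁ → q k * q k = 1 → k * k = 1
  perf : ∀ P : Subgroup X, P ≤ centralizer ({t} : Set X) → ⁅P, P⁆ = P → P ≤ M₁
  /-- the classes of involutions of `2.B` -/
  cls : ∀ u : ↥BB', u * u = 1 → u ≠ 1 → u ≠ τ → IsConj t (q u) ∨ IsConj a u ∨ IsConj (τ * a) u ∨ IsConj b u
  aa : a * a = 1
  bb : b * b = 1
  a1 : q a ≠ 1
  a2 : IsConj (τ : MG) (a : MG)
  za : IsConj zz ((τ * a : ↥BB') : MG)
  zb : IsConj zz (b : MG)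
  zt : ¬ IsConj zz (τ : MG)
  z1 : zz ≠ 1

variable {V P W : Type} [AddCommGroup V] [Module ℚ V] [Group P] [AddCommGroup W] [Module ℚ W]
  {D : MData V} {M : KS ↥D.G V P W} {x₀ : P} {θ : leechLattice → P} {K₀ : Type} [Group K₀]

/-- the fusion facts with the class of `f₁ f₂` -/
theorem exists_facts (A : All D K₀) (H : Link D M x₀) (L : Lift M θ) {τ : D.G} {y : P}
    (T : Cfsg.Agent.MonsterU.InvTwo.TauHyp M θ ⊤ τ y) {t : P} (ht : t ∈ M.Sh) :
    ∃ f₁ f₂ f₃ f₄ : BB M t, FusionType.Facts (tb M t) f₁ f₂ f₃ f₄ ∧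
      (∀ h, IsConj (tb M t * (f₁ * f₂)) (⟨M.z, h⟩ : BB M t)) ∧
      IsConj M.z ((f₁ * f₂ * f₃ : BB M t) : D.G) ∧ IsConj (M.ι t) ((f₁ * f₂ : BB M t) : D.G) ∧
      ∃ p : P, ((f₁ : BB M t) : D.G) = M.ι p ∧ IsType 2 (clP L p) ∧ IsType 2 (clP L t + clP L p) := by
  have F := FusInst.hyp A H L T ht
  obtain ⟨p₁, p₂, p₃, p₄, C⟩ := FusF2.exists_conf L ht
  refine ⟨_, _, _, _, F.facts C (F.c₁ C) (F.c₂ C) (F.c₃ C) (F.c₄ C), fun h => F.conj_z C _ _, ?_, ?_,
    p₁, rfl, C.s₁, C.t₁⟩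
  · obtain ⟨g, hg⟩ := F.four_z (q := p₁ * p₂ * p₃) (by rw [clP_mul, clP_mul]; exact C.s123)
    have h1 : IsConj (M.ι (p₁ * p₂ * p₃)) M.z := isConj_iff.2 ⟨g, hg⟩
    have e : ((FusF2.elt M p₁ (F.c₁ C) * FusF2.elt M p₂ (F.c₂ C) * FusF2.elt M p₃ (F.c₃ C) :
        FusF2.B M t) : D.G) = M.ι (p₁ * p₂ * p₃) := by
      rw [map_mul, map_mul]
      rfl
    rw [e]
    exact h1.symm
  · have e : ((FusF2.elt M p₁ (F.c₁ C) * FusF2.elt M p₂ (F.c₂ C) : FusF2.B M t) : D.G) = M.ι (p₁ * p₂) := by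
      rw [map_mul]
      rfl
    rw [e]
    exact F.conj_short (by rw [clP_mul]; exact C.s12)

/-- **All the objects.** -/
theorem elim {C : Prop} (A : All D K₀) (H : Link D M x₀) (L : Lift M θ) {τ : D.G} {y' : P}
    (T : Cfsg.Agent.MonsterU.InvTwo.TauHyp M θ ⊤ τ y') {y : ℕ → D.G} (hP : PRel y) (hne : y 0 ≠ y 1)
    (hy : ∃ g : D.G, g * tG A.hG A.hR * g⁻¹ = y 10)
    (k : ∀ (K : Type) [Field K] [Fintype K], Fintype.card K = 4 → Fintype.card K = 2 ^ 2 →
      ∀ [IsSimpleGroup (twistedE6 K 2)] [Finite (twistedE6 K 2)] [Finite D.G] [Finite Spor.BabyMonster]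
      (q : BB M x₀ →* Spor.BabyMonster) (y : ℕ → BB M x₀) (h : Pre y) (π : KK y →* twistedE6 K 2)
      (f₁ f₂ f₃ f₄ : BB M x₀),
      _root_.Cfsg.Agent.R01.Lifts.Ext q (tb M x₀) → y 10 = tb M x₀ → KD h (rootClass K) π →
      FusionType.Facts (tb M x₀) f₁ f₂ f₃ f₄ →
      IsConj M.z ((BB M x₀).subtype (tb M x₀ * (f₁ * f₂))) → IsConj M.z ((BB M x₀).subtype (f₁ * f₂ * f₃)) →
      IsConj (M.ι x₀) ((BB M x₀).subtype (f₁ * f₂)) →
      IsConj f₁ (y 5) → KEq.Big (BB M x₀) (tb M x₀) (y 5) →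
      IsConj (q (y 5)) (PresentedGroup.of Spor.BabyMonster.Gen.t1 : Spor.BabyMonster) →
      (¬ ∃ g, g * M.ι x₀ * g⁻¹ = M.z) → C) : C := by
  have hfin : Finite D.G := G_finite A.hO
  have hB : Cfsg.IsB Cfsg.Spor.BabyMonster := Cfsg.Agent.S1704.result
  obtain ⟨⟨h1, h2, h3⟩, h43⟩ := ModelB.fieldsKS A H L hP hne hy hB H.x₀_mem
  obtain ⟨f₁, f₂, f₃, f₄, Fc, hcz, hcd, hct, p, hp, hp2, hp2'⟩ := exists_facts A H L T H.x₀_mem
  have hzm : M.z ∈ BB M x₀ := mem_centralizer_singleton_iff.2 (by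
    show M.ι M.zc * M.ι x₀ = M.ι x₀ * M.ι M.zc
    rw [← map_mul, ← map_mul, M.zc_comm])
  have hE : Emb (BB M x₀).subtype M.z (tb M x₀) f₁ f₂ f₃ :=
    ⟨Subtype.val_injective, nineteen H A, ((BB M x₀).subtype.map_isConj (hcz hzm)).symm, hcd⟩
  -- the group `²E₆(2)`
  let K := GaloisField 2 2
  let _i : Fintype K := Fintype.ofFinite K
  have hK : Fintype.card K = 4 := by
    rw [← Nat.card_eq_fintype_card]
    exact GaloisField.card 2 2 (by norm_num)
  have hF : Fintype.card K = 2 ^ 2 := by rw [hK]; norm_num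
  have hsE := EInst.isSimple K hK
  obtain ⟨e0, r, he0, hgen, hr, -, hconj⟩ := TwoESix.GoodInst.exists_good K hK
  have hR : ∀ i, e0 i ∈ rootClass K := fun i => by
    obtain ⟨g, hg⟩ := hconj i
    exact ⟨g, r, hr, hg⟩
  have hHB : Finite HB := Cfsg.Agent.BM.HBFinal.finite_HB
  have hcard := Cfsg.Agent.BM.HBFinal.hcard K hK
  have big_a : KEq.Big (BB M x₀) (tb M x₀) f₁ := by
    have hm : M.ι p ∈ BB M x₀ := by rw [← hp]; exact f₁.2
    have e : f₁ = ⟨M.ι p, hm⟩ := Subtype.ext hp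
    rw [e]
    exact BigAConf.big_a L T H.x₀_mem h43 hp2 hp2'
  obtain ⟨q, yB, hpre, π, hq, h10, DK, hc5, hq5⟩ :=
    NodesB.nodes he0 hgen hcard (Cfsg.Agent.BM.HBFinal.card_E K hK) hR h1 h2 h3 Fc hE
  have hfX : Finite Spor.BabyMonster := Finite.of_surjective q hq.surj
  have big : KEq.Big (BB M x₀) (tb M x₀) (yB 5) := big_a.conj (fun x => (Fc.cen x).symm) hc5
  exact k K hK hF q yB hpre π f₁ f₂ f₃ f₄ hq h10 DK Fc hE.conj_z hE.conj_d hct hc5 big hq5
    (FusInst.hyp A H L T H.x₀_mem).hne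

/-- **The context.** -/
theorem exists_ctx : ∃ (q : ↥BB' →* X) (t : X) (M₁ : Subgroup X) (a b : ↥BB'), Ctx q t M₁ a b := by
  refine elim all KDone.lnk KDone.lft
    (TauInst.tauHyp (Final.cent InstanceFinal.mOrbit Instance.mTrans)) (NodesGrp.prel CTwoTab.BInst.H) (NodesNe.ne CTwoTab.BInst.H)
    conj_ten ?_
  intro K _ _ hK hF _ _ _ _ q y h π f₁ f₂ f₃ f₄ hq h10 DK Fc hcz hcd hct hc5 big hq5 hnz
  obtain ⟨M₁, B2⟩ := BaseTwo.exists_base2 hq5
  obtain ⟨σ, hσ⟩ := Main.exists_sigma hq h10 DK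
  have S := Main.data hq h10 DK big hσ
  have hM := BaseTwo.Base.eq_map hq h10 big B2.toBase
  have h12 : f₁ * f₂ * (f₁ * f₂) = 1 := by
    calc f₁ * f₂ * (f₁ * f₂) = f₁ * (f₂ * f₁) * f₂ := by group
      _ = (f₁ * f₁) * (f₂ * f₂) := by rw [← Fc.c12]; group
      _ = 1 := by rw [Fc.sq₁, Fc.sq₂, one_mul]
  have h123 : f₁ * f₂ * f₃ * (f₁ * f₂ * f₃) = 1 := by
    calc f₁ * f₂ * f₃ * (f₁ * f₂ * f₃) = f₁ * f₂ * (f₃ * f₁) * f₂ * f₃ := by group
      _ = f₁ * f₂ * f₁ * (f₃ * f₂) * f₃ := by rw [← Fc.c13]; group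
      _ = f₁ * f₂ * (f₁ * f₂) * (f₃ * f₃) := by rw [← Fc.c23]; group
      _ = 1 := by rw [h12, Fc.sq₃, one_mul]
  have ha1 : q (f₁ * f₂) ≠ 1 := by
    intro h1
    rcases (hq.ker _).1 h1 with h2 | h2
    · exact Fc.ne₂ h2
    · exact Fc.ne₁ h2
  refine ⟨q, q (y 5), M₁, f₁ * f₂, f₁ * f₂ * f₃, hq, hq5.symm, S.t_sq, S.t_ne, B2, hM ▸ S.mem, ?_, ?_, ?_, h12, h123,
    ha1, hct, hcz, hcd, ?_, ?_⟩
  · intro k hk hkk
    rw [hM] at hk
    obtain ⟨m, hm, hmk⟩ := hk
    have hmm : m * m = 1 := by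
      refine lift_sq (Cfsg.Agent.TwoESix.LeviG.rootFacts hK hF) (KeyInst.extra hF)
        (Cfsg.Agent.TwoESix.RootsInst.roots K hF) hq h10 DK hm ?_
      rw [hmk]; exact hkk
    rcases hq.map_eq.1 hmk with h1 | h1
    · rw [← h1]; exact hmm
    · have h2 : k = m * τ := by rw [h1, mul_assoc, hq.zz, mul_one]
      rw [h2]
      calc m * τ * (m * τ) = m * (τ * m) * τ := by group
        _ = m * m * (τ * τ) := by rw [← hq.comm m]; group
        _ = 1 := by rw [hmm, hq.zz, one_mul]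
  · intro P hP hp
    rw [hM]
    exact S.perf P hP hp
  · intro u huu hu1 huτ
    rcases Fc.classes u huu hu1 huτ with h1 | h1 | h1 | h1
    · exact Or.inl (q.map_isConj (hc5.symm.trans h1))
    · exact Or.inr (Or.inl h1)
    · exact Or.inr (Or.inr (Or.inl h1))
    · exact Or.inr (Or.inr (Or.inr h1))
  · intro h1
    obtain ⟨c, hc⟩ := isConj_iff.1 h1.symm
    exact hnz ⟨c, hc⟩
  · intro h1
    have h2 : (τ * (f₁ * f₂) : ↥BB') = 1 := by
      apply Subtype.ext
      obtain ⟨c, hc⟩ := isConj_iff.1 hcz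
      rw [show KDone.K.z = 1 from h1, mul_one, mul_inv_cancel] at hc
      exact hc.symm
    apply ha1
    have h3 := congrArg q h2
    rwa [map_mul, hq.mapz, one_mul, map_one] at h3

end Cfsg.Agent.H877.SK.B
end
end
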